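import Cfsg.Agent.QuatCore.AutEight
import Cfsg.Agent.QuatCore.Core
import Mathlib.LinearAlgebra.Matrix.GeneralLinearGroup.Card
import Mathlib.Data.Fintype.Perm

/-!
Groups of order 48 with a self-centralising normal `Q₈`: `GL(2,3)` and the binary octahedral group.
-/

set_option autoImplicit false

open scoped Pointwise

namespace CfsgLib.QuatCore

local notation "Q8" => QuaternionGroup 2
local notation "A8" => MulAut (QuaternionGroup 2)

/-- The action on a normal `Q₈`, transported to `Q₈`. -/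
def toAutQ8 {H : Type*} [Group H] (R : Subgroup H) [R.Normal] (e : R ≃* Q8) : H →* A8 :=
  (MulAut.congr e).toMonoidHom.comp MulAut.conjNormal

theorem toAutQ8_apply {H : Type*} [Group H] (R : Subgroup H) [R.Normal] (e : R ≃* Q8) (h : H) (r : R) :
    toAutQ8 R e h (e r) = e (MulAut.conjNormal h r) := by
  simp [toAutQ8, MulAut.congr]

variable {H : Type*} [Group H] [Finite H] {R : Subgroup H} [R.Normal]

omit [Finite H] in
theorem mem_ker_iff (e : R ≃* Q8) {h : H} :
    h ∈ (toAutQ8 R e).ker ↔ h ∈ Subgroup.centralizer (R : Set H) := by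
  rw [MonoidHom.mem_ker, Subgroup.mem_centralizer_iff]
  constructor
  · intro hh y hy
    have h1 := toAutQ8_apply R e h ⟨y, hy⟩
    rw [hh, MulAut.one_apply] at h1
    have h2 : h * y * h⁻¹ = y := by
      have := congrArg Subtype.val (e.injective h1)
      simpa using this.symm
    exact (mul_inv_eq_iff_eq_mul.1 h2).symm
  · intro hh
    apply MulEquiv.ext
    intro q
    obtain ⟨r, rfl⟩ := e.surjective q
    rw [toAutQ8_apply, MulAut.one_apply]
    congr 1
    apply Subtype.ext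
    rw [MulAut.conjNormal_apply, ← hh _ r.2, mul_inv_cancel_right]

/-- In order 48 the action is onto, with the centre as kernel. -/
theorem action_facts (e : R ≃* Q8) (hC : Subgroup.centralizer (R : Set H) ≤ R) (h48 : Nat.card H = 48) :
    Nat.card A8 = 24 ∧ Function.Surjective (toAutQ8 R e) ∧ Nat.card (toAutQ8 R e).ker = 2 ∧
      (toAutQ8 R e).ker = Subgroup.center H := by
  set φ := toAutQ8 R e
  have hker : φ.ker ≤ R := fun h hh => hC ((mem_ker_iff e).1 hh)
  have hk : Nat.card φ.ker = 2 := by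
    rw [← Nat.card_congr (Subgroup.subgroupOfEquivOfLe hker).toEquiv]
    have heq : (φ.ker.subgroupOf R).map e.toMonoidHom = Subgroup.center Q8 := by
      ext q
      obtain ⟨r, rfl⟩ := e.surjective q
      rw [show e r = e.toMonoidHom r from rfl, Subgroup.mem_map_iff_mem e.injective,
        Subgroup.mem_subgroupOf, mem_ker_iff, Subgroup.mem_center_iff, Subgroup.mem_centralizer_iff]
      constructor
      · intro h g
        obtain ⟨y, rfl⟩ := e.surjective g
        show e y * e r = e r * e y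
        rw [← map_mul, ← map_mul, show y * r = r * y from Subtype.ext (h _ y.2)]
      · intro h y hy
        have h' := h (e ⟨y, hy⟩)
        change e _ * e r = e r * e _ at h'
        rw [← map_mul, ← map_mul] at h'
        exact congrArg Subtype.val (e.injective h')
    rw [← Subgroup.card_map_of_injective (f := e.toMonoidHom) e.injective, heq,
      Nat.card_congr (Equiv.subtypeEquivRight fun g => Subgroup.mem_center_iff),
      Nat.card_eq_fintype_card]
    decide +kernel
  have hr : Nat.card φ.range = 24 := by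
    have := φ.ker.card_mul_index
    rw [Subgroup.index_ker, hk, h48] at this
    omega
  have hA : Nat.card A8 = 24 := by
    have h2 : Nat.card A8 ∣ 24 := by
      have := card_aut_q8 ⊤
      rwa [Subgroup.card_top] at this
    exact Nat.dvd_antisymm h2 (hr ▸ Subgroup.card_subgroup_dvd_card φ.range)
  haveI : Finite A8 := Nat.finite_of_card_ne_zero (by omega)
  refine ⟨hA, MonoidHom.range_eq_top.1 (Subgroup.eq_top_of_card_eq _ (hr.trans hA.symm)), hk, ?_⟩
  refine le_antisymm ?_ fun z hz => (mem_ker_iff e).2 (Subgroup.center_le_centralizer _ hz)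
  intro z hz
  rw [Subgroup.mem_center_iff]
  intro g
  have hgz : g * z * g⁻¹ ∈ φ.ker := (inferInstance : φ.ker.Normal).conj_mem z hz g
  rcases eq_or_ne z 1 with rfl | hz1
  · rw [mul_one, one_mul]
  by_contra hne
  have hne' : g * z * g⁻¹ ≠ z := fun h => hne (mul_inv_eq_iff_eq_mul.1 h)
  have hsub : ({1, z, g * z * g⁻¹} : Set H) ⊆ (φ.ker : Set H) := by
    rintro _ (rfl | rfl | rfl)
    exacts [one_mem _, hz, hgz]
  have hle := Set.ncard_le_ncard hsub (Set.toFinite _)
  rw [Set.ncard_eq_three.2 ⟨1, z, g * z * g⁻¹, Ne.symm hz1,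
    fun h => hz1 (conj_eq_one_iff.1 h.symm), Ne.symm hne', rfl⟩, ← Nat.card_coe_set_eq] at hle
  exact absurd (hle.trans hk.le) (by norm_num)

omit [R.Normal] in
/-- Recognition as the semidirect product of `Q₈` and its image. -/
theorem nonempty_semidirect [R.Normal] (e : R ≃* Q8) (hC : Subgroup.centralizer (R : Set H) ≤ R)
    (h48 : Nat.card H = 48) {L : Subgroup H} (hL : Nat.card L = 6) (hRL : R ⊓ L = ⊥) :
    ∃ B : Subgroup A8, Nat.card B = 6 ∧ Nonempty (H ≃* Q8 ⋊[B.subtype] ↥B) := by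
  set φ := toAutQ8 R e
  have hinj : Function.Injective (φ.comp L.subtype) := by
    rw [← MonoidHom.ker_eq_bot_iff, eq_bot_iff]
    intro l hl
    have h : (l : H) ∈ R ⊓ L := ⟨hC ((mem_ker_iff e).1 hl), l.2⟩
    rw [hRL] at h
    exact Subtype.ext (Subgroup.mem_bot.1 h)
  set B := (φ.comp L.subtype).range
  set eL : ↥L ≃* ↥B := MonoidHom.ofInjective hinj
  have hcomp : R.IsComplement' L := by
    refine Subgroup.isComplement'_of_card_mul_and_disjoint ?_ (disjoint_iff.2 hRL)
    rw [Nat.card_congr e.toEquiv, hL, h48, Nat.card_eq_fintype_card, QuaternionGroup.card]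
  refine ⟨B, ?_, ⟨(SemidirectProduct.mulEquivSubgroup hcomp).symm.trans
    (SemidirectProduct.congr e eL fun l => ?_)⟩⟩
  · rw [← Nat.card_congr eL.toEquiv, hL]
  apply MulEquiv.ext
  intro r
  show e _ = φ (l : H) (e r)
  rw [toAutQ8_apply]
  congr 1

/-! ### `GL(2,3)` -/

local notation "GL23" => Matrix.GeneralLinearGroup (Fin 2) (ZMod 3)

local notation "M23" => Matrix (Fin 2) (Fin 2) (ZMod 3)

theorem fin_two_eq (M : M23) : M = !![M 0 0, M 0 1; M 1 0, M 1 1] := Matrix.eta_fin_two M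

/-- The image of a matrix of `Q₈`. -/
def q8Mat : Q8 → M23
  | .a i => !![0, -1; 1, 0] ^ i.val
  | .xa i => !![1, 1; 1, -1] * !![0, -1; 1, 0] ^ i.val

theorem q8Mat_mul : ∀ q r : Q8, q8Mat (q * r) = q8Mat q * q8Mat r := by decide +kernel

theorem q8Mat_one : q8Mat 1 = 1 := by decide +kernel

theorem q8Mat_injective : ∀ q r : Q8, q8Mat q = q8Mat r → q = r := by decide +kernel

theorem q8Mat_cover : ∀ a b c d : ZMod 3, !![a, b; c, d] * !![a, b; c, d] = (-1 : M23) →
    ∃ q : Q8, q8Mat q = !![a, b; c, d] := by decide +kernel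

theorem q8Mat_sq : ∀ q : Q8, q8Mat q = 1 ∨ q8Mat q = -1 ∨ q8Mat q * q8Mat q = -1 := by decide +kernel

theorem q8Mat_negOne : ∃ q : Q8, q8Mat q = -1 := by decide +kernel

theorem q8Mat_cent : ∀ a b c d : ZMod 3,
    !![a, b; c, d] * q8Mat (.a 1) = q8Mat (.a 1) * !![a, b; c, d] →
    !![a, b; c, d] * q8Mat (.xa 0) = q8Mat (.xa 0) * !![a, b; c, d] →
    ∀ e f g h : ZMod 3, !![a, b; c, d] * !![e, f; g, h] = 1 → ∃ q : Q8, q8Mat q = !![a, b; c, d] := by
  decide +kernel

theorem upper_sq : ∀ b d : ZMod 3,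
    !![1, b; 0, d] * !![1, b; 0, d] ≠ (-1 : M23) ∧ (!![1, b; 0, d] : M23) ≠ -1 := by
  decide +kernel

theorem fpf_involution_cases : ∀ σ : Equiv.Perm (Fin 4), σ * σ = 1 → (∀ i, σ i ≠ i) →
    σ = Equiv.swap 0 1 * Equiv.swap 2 3 ∨ σ = Equiv.swap 0 2 * Equiv.swap 1 3 ∨
      σ = Equiv.swap 0 3 * Equiv.swap 1 2 := by
  decide +kernel

theorem fpf_involutions_four {σ τ υ ρ : Equiv.Perm (Fin 4)} (hσ : σ * σ = 1) (hτ : τ * τ = 1)
    (hυ : υ * υ = 1) (hρ : ρ * ρ = 1) (fσ : ∀ i, σ i ≠ i) (fτ : ∀ i, τ i ≠ i) (fυ : ∀ i, υ i ≠ i)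
    (fρ : ∀ i, ρ i ≠ i) (h1 : τ ≠ υ) (h2 : τ ≠ ρ) (h3 : υ ≠ ρ) : σ = τ ∨ σ = υ ∨ σ = ρ := by
  rcases fpf_involution_cases σ hσ fσ with rfl | rfl | rfl <;>
    rcases fpf_involution_cases τ hτ fτ with rfl | rfl | rfl <;>
    rcases fpf_involution_cases υ hυ fυ with rfl | rfl | rfl <;>
    rcases fpf_involution_cases ρ hρ fρ with rfl | rfl | rfl <;>
    simp only [ne_eq, not_true_eq_false, true_or, or_true] at *

theorem card_upper_pairs : Nat.card {x : ZMod 3 × ZMod 3 // x.2 ≠ 0} = 6 := by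
  rw [Nat.card_eq_fintype_card]
  decide +kernel

theorem upper_facts : (!![1, 1; 0, 1] : M23) * (!![1, 1; 0, 1] * !![1, 1; 0, 1]) = 1 ∧
    (!![1, 0; 0, 2] : M23) * !![1, 0; 0, 2] = 1 ∧ (!![1, 1; 0, 1] : M23) ≠ 1 ∧
    (!![1, 0; 0, 2] : M23) ≠ 1 ∧
    (!![1, 1; 0, 1] : M23) * !![1, 2; 0, 1] = 1 ∧ (!![1, 2; 0, 1] : M23) * !![1, 1; 0, 1] = 1 := by
  decide +kernel

theorem upper_det_ne : ∀ b : ZMod 3, ∀ e f g h : ZMod 3,
    (!![1, b; 0, 0] : M23) * !![e, f; g, h] ≠ 1 := by
  decide +kernel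

/-- `GL(2,3)` is the semidirect product of `Q₈` by a subgroup of order six of its automorphisms. -/
theorem gl_semidirect : ∃ B : Subgroup A8, Nat.card B = 6 ∧ Nonempty (GL23 ≃* Q8 ⋊[B.subtype] ↥B) := by
  haveI : Fact (Nat.Prime 3) := ⟨Nat.prime_three⟩
  let f : Q8 →* GL23 := MonoidHom.toHomUnits
    { toFun := q8Mat, map_one' := q8Mat_one, map_mul' := q8Mat_mul }
  have hfv : ∀ q, ((f q : GL23) : M23) = q8Mat q := fun q => rfl
  have hfi : Function.Injective f := fun q r h =>
    q8Mat_injective q r (by rw [← hfv, ← hfv, h])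
  have hmem : ∀ g : GL23, g ∈ f.range ↔ g = 1 ∨ (g : M23) = -1 ∨ (g : M23) * g = -1 := by
    intro g
    constructor
    · rintro ⟨q, rfl⟩
      rcases q8Mat_sq q with h | h | h
      · exact Or.inl (Units.ext (by rw [hfv, h]; rfl))
      · exact Or.inr (Or.inl (by rw [hfv, h]))
      · exact Or.inr (Or.inr (by rw [hfv, h]))
    · rintro (rfl | h | h)
      · exact one_mem _
      · obtain ⟨q, hq⟩ := q8Mat_negOne
        exact ⟨q, Units.ext (by rw [hfv, hq, h])⟩
      · rw [fin_two_eq (g : M23)] at h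
        obtain ⟨q, hq⟩ := q8Mat_cover _ _ _ _ h
        exact ⟨q, Units.ext (by rw [hfv, hq, ← fin_two_eq])⟩
  haveI : f.range.Normal := by
    refine ⟨fun g hg k => ?_⟩
    rw [hmem] at hg ⊢
    rcases hg with rfl | h | h
    · exact Or.inl (by group)
    · refine Or.inr (Or.inl ?_)
      rw [Units.val_mul, Units.val_mul, h, mul_neg, mul_one, neg_mul, Units.mul_inv]
    · refine Or.inr (Or.inr ?_)
      rw [← Units.val_mul, show k * g * k⁻¹ * (k * g * k⁻¹) = k * (g * g) * k⁻¹ by group,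
        Units.val_mul, Units.val_mul, Units.val_mul, h, mul_neg, mul_one, neg_mul, Units.mul_inv]
  have hC : Subgroup.centralizer (f.range : Set GL23) ≤ f.range := by
    intro g hg
    rw [Subgroup.mem_centralizer_iff] at hg
    have h1 := congrArg Units.val (hg _ ⟨.a 1, rfl⟩)
    have h2 := congrArg Units.val (hg _ ⟨.xa 0, rfl⟩)
    rw [Units.val_mul, Units.val_mul, hfv, fin_two_eq (g : M23)] at h1 h2
    have h3 : (g : M23) * ((g⁻¹ : GL23) : M23) = 1 := Units.mul_inv g
    rw [fin_two_eq (g : M23), fin_two_eq ((g⁻¹ : GL23) : M23)] at h3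
    obtain ⟨q, hq⟩ := q8Mat_cent _ _ _ _ h1.symm h2.symm _ _ _ _ h3
    exact ⟨q, Units.ext (by rw [hfv, hq, ← fin_two_eq])⟩
  -- the upper triangular subgroup
  let L : Subgroup GL23 :=
    { carrier := {g | (g : M23) 0 0 = 1 ∧ (g : M23) 1 0 = 0}
      one_mem' := by simp
      mul_mem' := fun {g k} hg hk => by
        simp only [Set.mem_ofPred_eq, Units.val_mul, Matrix.mul_apply, Fin.sum_univ_two] at *
        simp [hg.1, hg.2, hk.1, hk.2]
      inv_mem' := fun {g} hg => by
        simp only [Set.mem_ofPred_eq] at *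
        have h : ((g⁻¹ : GL23) : M23) * (g : M23) = 1 := Units.inv_mul g
        have h00 := congrFun (congrFun h 0) 0
        have h10 := congrFun (congrFun h 1) 0
        simp only [Matrix.mul_apply, Fin.sum_univ_two, hg.1, hg.2, mul_one, mul_zero, add_zero,
          Matrix.one_apply_eq, Matrix.one_apply_ne (show (1 : Fin 2) ≠ 0 by decide)] at h00 h10
        exact ⟨h00, h10⟩ }
  have hd : ∀ g : GL23, g ∈ L → (g : M23) = !![1, (g : M23) 0 1; 0, (g : M23) 1 1] := fun g hg => by
    conv_lhs => rw [fin_two_eq (g : M23)]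
    rw [hg.1, hg.2]
  have hL6 : Nat.card L = 6 := by
    obtain ⟨m3, m2, n3, n2, i1, i2⟩ := upper_facts
    let u : GL23 := ⟨!![1, 1; 0, 1], !![1, 2; 0, 1], i1, i2⟩
    let t : GL23 := ⟨!![1, 0; 0, 2], !![1, 0; 0, 2], m2, m2⟩
    have huL : u ∈ L := ⟨rfl, rfl⟩
    have htL : t ∈ L := ⟨rfl, rfl⟩
    have hu : orderOf u = 3 := orderOf_eq_prime (Units.ext (by
      rw [pow_succ', pow_two, Units.val_mul, Units.val_mul]; exact m3))
      (fun h => n3 (congrArg Units.val h))
    have ht : orderOf t = 2 := by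
      haveI : Fact (Nat.Prime 2) := ⟨Nat.prime_two⟩
      exact orderOf_eq_prime (Units.ext (by rw [pow_two, Units.val_mul]; exact m2))
        (fun h => n2 (congrArg Units.val h))
    have h6 : 6 ∣ Nat.card L := Nat.Coprime.mul_dvd_of_dvd_of_dvd (by norm_num : Nat.Coprime 3 2)
      (hu.symm.dvd.trans (Subgroup.orderOf_dvd_natCard L huL))
      (ht.symm.dvd.trans (Subgroup.orderOf_dvd_natCard L htL))
    have hle : Nat.card L ≤ 6 := by
      let Φ : ↥L → {x : ZMod 3 × ZMod 3 // x.2 ≠ 0} := fun g =>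
        ⟨(((g : GL23) : M23) 0 1, ((g : GL23) : M23) 1 1), fun h => by
          have h3 : ((g : GL23) : M23) * (((g : GL23)⁻¹ : GL23) : M23) = 1 := Units.mul_inv _
          rw [hd _ g.2, fin_two_eq (((g : GL23)⁻¹ : GL23) : M23), show ((g : GL23) : M23) 1 1 = 0 from h] at h3
          exact upper_det_ne _ _ _ _ _ h3⟩
      have hΦ : Function.Injective Φ := fun g k h => by
        have h' := congrArg Subtype.val h
        simp only [Φ, Prod.mk.injEq] at h'
        exact Subtype.ext (Units.ext (by rw [hd _ g.2, hd _ k.2, h'.1, h'.2]))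
      exact (Nat.card_le_card_of_injective Φ hΦ).trans_eq card_upper_pairs
    exact Nat.le_antisymm hle (Nat.le_of_dvd Nat.card_pos h6)
  have hRL : f.range ⊓ L = ⊥ := by
    rw [eq_bot_iff]
    rintro g ⟨hgR, hgL⟩
    have he := hd g hgL
    rcases (hmem g).1 hgR with h | h | h
    · exact Subgroup.mem_bot.2 h
    · exact absurd (he ▸ h) (upper_sq _ _).2
    · rw [he] at h; exact absurd h (upper_sq _ _).1
  have h48 : Nat.card GL23 = 48 := by
    rw [Matrix.card_GL_field, Fin.prod_univ_two, ZMod.card]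
    rfl
  exact nonempty_semidirect (MonoidHom.ofInjective hfi).symm hC h48 hL6 hRL

/-- A group of order 48 with self-centralising normal `Q₈`: `GL(2,3)` when there is an involution
outside `R`. -/
theorem nonempty_gl_three (e : R ≃* Q8) (hC : Subgroup.centralizer (R : Set H) ≤ R)
    (h48 : Nat.card H = 48) {t : H} (ht : t * t = 1) (htR : t ∉ R) : Nonempty (H ≃* GL23) := by
  haveI : Fact (Nat.Prime 3) := ⟨Nat.prime_three⟩
  obtain ⟨hA, hsur, hk, -⟩ := action_facts e hC h48
  haveI : Finite A8 := Nat.finite_of_card_ne_zero (by omega)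
  set φ := toAutQ8 R e with hφ
  have hinner : ∀ r : R, φ (r : H) = MulAut.conj (e r) := by
    intro r
    apply MulEquiv.ext
    intro q
    obtain ⟨s, rfl⟩ := e.surjective q
    rw [toAutQ8_apply, MulAut.conj_apply, ← map_inv, ← map_mul, ← map_mul]
    congr 1
  have hker : φ.ker ≤ R := fun h hh => hC ((mem_ker_iff e).1 hh)
  have htA : φ t * φ t = 1 := by rw [← map_mul, ht, map_one]
  have hnotinner : ∀ q : Q8, φ t ≠ MulAut.conj q := by
    intro q h
    obtain ⟨r, rfl⟩ := e.surjective q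
    rw [← hinner] at h
    have h1 : (r : H)⁻¹ * t ∈ φ.ker := by rw [MonoidHom.mem_ker, map_mul, map_inv, h, inv_mul_cancel]
    have := mul_mem r.2 (hker h1)
    rw [mul_inv_cancel_left] at this
    exact htR this
  -- `φ t` fixes one of the four Sylow 3-subgroups
  obtain ⟨P, hP⟩ : ∃ P : Sylow 3 A8, φ t • P = P := by
    by_contra hc
    push Not at hc
    obtain ⟨ψ, hψ⟩ := nonempty_equiv_perm_four hA
    set e4 := Finite.equivFinOfCardEq (card_sylow_eq_four hA)
    let ψ' : A8 ≃* Equiv.Perm (Fin 4) := ψ.trans e4.permCongrHom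
    have hfix : ∀ α : A8, (∀ Q : Sylow 3 A8, α • Q ≠ Q) → ∀ i, ψ' α i ≠ i := by
      intro α hα i h
      apply hα (e4.symm i)
      apply e4.injective
      rw [← hψ, e4.apply_symm_apply]
      exact h
    have hc' : ∀ r : Q8, r * r ≠ 1 → (∀ i, ψ' (MulAut.conj r) i ≠ i) ∧
        ψ' (MulAut.conj r) * ψ' (MulAut.conj r) = 1 := by
      intro r hr
      refine ⟨hfix _ fun Q hQ => inner_not_mem_normalizer hA Q hr (Sylow.smul_eq_iff_mem_normalizer.1 hQ), ?_⟩
      have h2 : ∀ q : Q8, ∀ g, q * q * g * (q * q)⁻¹ = g := by decide +kernel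
      rw [← map_mul, ← map_mul, ← map_one ψ']
      congr 1
      exact MulEquiv.ext (h2 r)
    have hne : ∀ r s : Q8, (∃ g, r * g * r⁻¹ ≠ s * g * s⁻¹) → ψ' (MulAut.conj r) ≠ ψ' (MulAut.conj s) :=
      fun r s ⟨g, hg⟩ h => hg (DFunLike.congr_fun (ψ'.injective h) g)
    obtain ⟨f1, s1⟩ := hc' (.a 1) (by decide)
    obtain ⟨f2, s2⟩ := hc' (.xa 0) (by decide)
    obtain ⟨f3, s3⟩ := hc' (.xa 1) (by decide)
    rcases fpf_involutions_four (σ := ψ' (φ t)) (by rw [← map_mul, htA, map_one]) s1 s2 s3 (hfix _ hc) f1 f2 f3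
      (hne _ _ (by decide +kernel)) (hne _ _ (by decide +kernel)) (hne _ _ (by decide +kernel)) with h | h | h <;>
      exact hnotinner _ (ψ'.injective h)
  obtain ⟨α, hα, hα1⟩ := exists_ne_one_mem hA P
  obtain ⟨x, hx⟩ := hsur α
  -- an element of order three above `α`
  have hα3 := pow_three_of_mem hA hα
  set u := x ^ 4 with hu
  have hu3 : u ^ 3 = 1 := by
    have hx6 : (x ^ 3) ^ 2 = 1 := by
      have h1 : x ^ 3 ∈ φ.ker := by rw [MonoidHom.mem_ker, map_pow, hx, hα3]
      have := pow_card_eq_one' (x := (⟨x ^ 3, h1⟩ : φ.ker))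
      rw [hk] at this
      exact congrArg Subtype.val this
    rw [hu, ← pow_mul, show 4 * 3 = 3 * 2 * 2 by norm_num, pow_mul, pow_mul, hx6, one_pow]
  have huα : φ u = α := by rw [hu, map_pow, hx, pow_succ, hα3, one_mul]
  have hu1 : u ≠ 1 := fun h => hα1 (by rw [← huα, h, map_one])
  have huR : ∀ i : ℤ, u ^ i ∈ R → u ^ i = 1 := by
    intro i hi
    have h4 : (u ^ i) ^ 4 = 1 := by
      have e4 := q8_central_facts.2.2.1 (e ⟨u ^ i, hi⟩)
      rw [← map_mul, ← map_mul, ← map_mul] at e4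
      have := congrArg Subtype.val ((e.map_eq_one_iff).1 e4)
      rw [pow_succ, pow_succ, pow_succ, pow_one]
      exact this
    have h3 : (u ^ i) ^ 3 = 1 := by
      rw [← zpow_natCast, ← zpow_mul, mul_comm, zpow_mul, zpow_natCast, hu3, one_zpow]
    rwa [pow_succ, h3, one_mul] at h4
  -- `t` normalises `⟨u⟩`
  have htu : t * u * t⁻¹ ∈ Subgroup.zpowers u := by
    have h1 : φ (t * u * t⁻¹) ∈ (P : Subgroup A8) := by
      rw [map_mul, map_mul, map_inv, huα]
      exact (Subgroup.mem_normalizer_iff.1 (Sylow.smul_eq_iff_mem_normalizer.1 hP) α).1 hα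
    have hP' : Subgroup.zpowers α = (P : Subgroup A8) := by
      refine Subgroup.eq_of_le_of_card_ge (Subgroup.zpowers_le.2 hα) ?_
      rw [Nat.card_zpowers, card_sylow_three_eq hA P, orderOf_eq_prime hα3 hα1]
    rw [← hP'] at h1
    obtain ⟨i, hi⟩ := h1
    have hi' : α ^ i = φ (t * u * t⁻¹) := hi
    have hk' : (u ^ i)⁻¹ * (t * u * t⁻¹) ∈ φ.ker := by
      rw [MonoidHom.mem_ker, map_mul, map_inv, map_zpow, huα, hi', inv_mul_cancel]
    set z := (u ^ i)⁻¹ * (t * u * t⁻¹) with hz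
    have hcen : z ∈ Subgroup.center H := (action_facts e hC h48).2.2.2 ▸ hk'
    have hz2 : z ^ 2 = 1 := by
      have := pow_card_eq_one' (x := (⟨z, hk'⟩ : φ.ker))
      rw [hk] at this
      exact congrArg Subtype.val this
    have hz3 : z ^ 3 = 1 := by
      have hcm : Commute (u ^ i) z := Subgroup.mem_center_iff.1 hcen _
      have hmul : u ^ i * z = t * u * t⁻¹ := mul_inv_cancel_left _ _
      have h3 := congrArg (· ^ 3) hmul
      change (u ^ i * z) ^ 3 = (t * u * t⁻¹) ^ 3 at h3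
      rw [hcm.mul_pow, conj_pow, hu3, mul_one, mul_inv_cancel, ← zpow_natCast, ← zpow_mul, mul_comm,
        zpow_mul, zpow_natCast, hu3, one_zpow, one_mul] at h3
      exact h3
    have hz1 : z = 1 := by rwa [pow_succ, hz2, one_mul] at hz3
    exact ⟨i, inv_mul_eq_one.1 hz1⟩
  set L := Subgroup.zpowers u ⊔ Subgroup.zpowers t
  have htn : Subgroup.zpowers t ≤ Subgroup.normalizer ((Subgroup.zpowers u : Subgroup H) : Set H) := by
    rw [Subgroup.zpowers_le, Subgroup.mem_normalizer_iff_map_conj_eq]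
    refine Subgroup.eq_of_le_of_card_ge ?_ (Subgroup.card_map_of_injective (MulAut.conj t).injective).ge
    rw [MonoidHom.map_zpowers, Subgroup.zpowers_le]
    exact htu
  have hmemL : ∀ l ∈ L, ∃ i : ℤ, l = u ^ i ∨ l = u ^ i * t := by
    intro l hl
    have hcoe := Subgroup.coe_mul_of_right_le_normalizer_left _ _ htn
    rw [← SetLike.mem_coe, hcoe] at hl
    obtain ⟨a, ⟨i, rfl⟩, b, ⟨j, rfl⟩, rfl⟩ := hl
    refine ⟨i, ?_⟩
    show u ^ i * t ^ j = u ^ i ∨ u ^ i * t ^ j = u ^ i * t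
    have ht2 : t ^ (2 : ℤ) = 1 := by rw [zpow_two]; exact ht
    rcases Int.even_or_odd' j with ⟨l, rfl | rfl⟩
    · left; rw [zpow_mul, ht2, one_zpow, mul_one]
    · right; rw [zpow_add_one, zpow_mul, ht2, one_zpow, one_mul]
  have hRL : R ⊓ L = ⊥ := by
    rw [eq_bot_iff]
    rintro l ⟨hlR, hlL⟩
    obtain ⟨i, rfl | rfl⟩ := hmemL l hlL
    · exact Subgroup.mem_bot.2 (huR i hlR)
    · exfalso
      have h2 : u ^ i * u ^ i ∈ R := by
        -- modulo `R` the elements `u ^ i` and `t` are inverse to each other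
        have h1 := (inferInstance : R.Normal).conj_mem _ hlR (u ^ i)
        have h3 := mul_mem h1 hlR
        have e3 : u ^ i * (u ^ i * t) * (u ^ i)⁻¹ * (u ^ i * t) = u ^ i * u ^ i * (t * t) := by group
        rw [e3, ht, mul_one] at h3
        exact h3
      rw [← zpow_add] at h2
      have h4 := huR _ h2
      have h3 : u ^ (3 : ℤ) = 1 := by rw [zpow_ofNat]; exact hu3
      have h5 : u ^ i = 1 := by
        have e : u ^ i = (u ^ (i + i)) ^ 2 * (u ^ (3 : ℤ)) ^ (-i) := by
          rw [← zpow_natCast, ← zpow_mul, ← zpow_mul, ← zpow_add]; congr 1; ring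
        rw [e, h4, h3]; simp
      rw [h5, one_mul] at hlR
      exact htR hlR
  have hL6 : Nat.card L = 6 := by
    have hsub : L ≤ L := le_rfl
    have hou : orderOf u = 3 := orderOf_eq_prime hu3 hu1
    have ht1 : t ≠ 1 := fun h => htR (h ▸ one_mem R)
    have hot : orderOf t = 2 := orderOf_eq_prime (by rw [pow_two, ht]) ht1
    have hd3 : 3 ∣ Nat.card L := hou ▸ (Subgroup.orderOf_dvd_natCard L (Subgroup.mem_sup_left (Subgroup.mem_zpowers u)))
    have hd2 : 2 ∣ Nat.card L := hot ▸ (Subgroup.orderOf_dvd_natCard L (Subgroup.mem_sup_right (Subgroup.mem_zpowers t)))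
    have h6 : 6 ∣ Nat.card L := Nat.Coprime.mul_dvd_of_dvd_of_dvd (by norm_num : Nat.Coprime 3 2) hd3 hd2
    have hle : Nat.card L ≤ 6 := by
      calc Nat.card L = Nat.card ↥((Subgroup.zpowers u : Set H) * (Subgroup.zpowers t : Set H)) :=
            Nat.card_congr (Equiv.setCongr (Subgroup.coe_mul_of_right_le_normalizer_left _ _ htn))
        _ ≤ Nat.card (Subgroup.zpowers u) * Nat.card (Subgroup.zpowers t) := Set.natCard_mul_le
        _ = 6 := by rw [Nat.card_zpowers, Nat.card_zpowers, hou, hot]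
    exact Nat.le_antisymm hle (Nat.le_of_dvd Nat.card_pos h6)
  obtain ⟨B, hB, ⟨e1⟩⟩ := nonempty_semidirect e hC h48 hL6 hRL
  obtain ⟨B', hB', ⟨e2⟩⟩ := gl_semidirect
  obtain ⟨eB⟩ := nonempty_semidirect_equiv hA hB hB'
  exact ⟨e1.trans (eB.trans e2.symm)⟩

/-- The two groups of order 48. -/
theorem gl_or_binary (e : R ≃* Q8) (hC : Subgroup.centralizer (R : Set H) ≤ R) (h48 : Nat.card H = 48) :
    Nonempty (H ≃* GL23) ∨ (Nat.card ↥(Subgroup.center H) = 2 ∧
      Nonempty (H ⧸ Subgroup.center H ≃* Equiv.Perm (Fin 4)) ∧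
      ∀ P : Sylow 2 H, Nonempty (↥(P : Subgroup H) ≃* QuaternionGroup 4)) := by
  haveI : Fact (Nat.Prime 2) := ⟨Nat.prime_two⟩
  by_cases hex : ∃ t : H, t * t = 1 ∧ t ∉ R
  · obtain ⟨t, ht, htR⟩ := hex
    exact Or.inl (nonempty_gl_three e hC h48 ht htR)
  push Not at hex
  obtain ⟨hA, hsur, hk, hkc⟩ := action_facts e hC h48
  refine Or.inr ⟨hkc ▸ hk, ?_, ?_⟩
  · obtain ⟨ψ⟩ := nonempty_equiv_symmetric_four hA
    exact ⟨((QuotientGroup.quotientMulEquivOfEq hkc.symm).trans
      (QuotientGroup.quotientKerEquivOfSurjective _ hsur)).trans ψ⟩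
  · intro P
    have hone : CfsgLib.TwoGroup.AtMostOneInvolution ↥(P : Subgroup H) := by
      intro x y hx hy
      have hsq : ∀ w : ↥(P : Subgroup H), orderOf w = 2 → (w : H) * w = 1 ∧ (w : H) ≠ 1 := by
        intro w hw
        have h := pow_orderOf_eq_one w
        rw [hw, pow_two] at h
        refine ⟨congrArg Subtype.val h, fun h1 => ?_⟩
        rw [show w = 1 from Subtype.ext h1, orderOf_one] at hw
        omega
      obtain ⟨hxx, hx1⟩ := hsq x hx
      obtain ⟨hyy, hy1⟩ := hsq y hy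
      have hcen : ∀ w (hw : w * w = 1), ∀ g, e ⟨w, hex w hw⟩ * g = g * e ⟨w, hex w hw⟩ := fun w hw =>
        q8_central_facts.2.2.2 _ (by
          rw [← map_mul, ← map_one e]; congr 1; exact Subtype.ext hw)
      have h := q8_central_facts.2.1 _ _ (hcen x hxx) (hcen y hyy)
        (fun h => hx1 (congrArg Subtype.val ((e.map_eq_one_iff).1 h)))
        (fun h => hy1 (congrArg Subtype.val ((e.map_eq_one_iff).1 h)))
      exact Subtype.ext (congrArg (Subtype.val : ↥R → H) (e.injective h))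
    obtain ⟨n, hn⟩ := IsPGroup.iff_card.1 P.isPGroup'
    have hcard : Nat.card ↥(P : Subgroup H) = 16 := by
      have hmul := (P : Subgroup H).card_mul_index
      have hni : ¬ 2 ∣ (P : Subgroup H).index := P.not_dvd_index
      rw [hn, h48] at hmul
      rw [hn]
      have hb : n ≤ 4 := by
        by_contra h
        have h32 : 32 ∣ 48 := (pow_dvd_pow 2 (show 5 ≤ n by omega)).trans (Dvd.intro _ hmul)
        norm_num at h32
      interval_cases n <;> first | rfl | (exfalso; apply hni; omega)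
    rcases CfsgLib.TwoGroup.cyclic_or_quaternion P.isPGroup' hone with hcy | ⟨k, -, ⟨eP⟩⟩
    · exfalso
      -- `R` is not cyclic
      have hRP : R ≤ (P : Subgroup H) := by
        obtain ⟨U, hU⟩ := ((IsPGroup.of_card (n := 3) (by
          rw [Nat.card_congr e.toEquiv, Nat.card_eq_fintype_card, QuaternionGroup.card]; rfl)) :
          IsPGroup 2 ↥R).exists_le_sylow
        obtain ⟨g, hg⟩ := MulAction.exists_smul_eq H U P
        intro x hx
        rw [← hg, Sylow.coe_subgroup_smul]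
        exact ⟨g⁻¹ * x * g⁻¹⁻¹, hU ((inferInstance : R.Normal).conj_mem x hx g⁻¹),
          show g * (g⁻¹ * x * g⁻¹⁻¹) * g⁻¹ = x by group⟩
      have hRc : IsCyclic R := isCyclic_of_injective (Subgroup.inclusion hRP) (Subgroup.inclusion_injective hRP)
      haveI : IsCyclic Q8 := isCyclic_of_surjective e.toMonoidHom e.surjective
      have h1 : (QuaternionGroup.a 1 : Q8) * QuaternionGroup.xa 0 = QuaternionGroup.xa 0 * QuaternionGroup.a 1 :=
        (IsCyclic.commutative (α := Q8)).is_comm.comm _ _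
      revert h1; decide
    · haveI : NeZero (2 ^ k) := ⟨by positivity⟩
      rw [Nat.card_congr eP.toEquiv, Nat.card_eq_fintype_card, QuaternionGroup.card] at hcard
      have hk4 : 2 ^ k = 4 := by omega
      rw [hk4] at eP
      exact ⟨eP⟩

end CfsgLib.QuatCore
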