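import Cfsg.Agent.QuatCore.Aut
import Cfsg.Agent.PGroup.Commutator
import Cfsg.Agent.PGroup.Frattini
import Cfsg.Agent.S4189
import Cfsg.Prelude.Def_OddOrderLocal

/-!
Metacyclic `2`-groups with an automorphism of odd order.
-/

set_option autoImplicit false

open scoped commutatorElement

namespace CfsgLib.QuatCore

variable {X : Type*} [Group X] [Finite X]

omit [Finite X] in
/-- Powers detect automorphisms of odd order. -/
theorem exists_odd_aut [Finite (MulAut X)] (hA : ¬ IsPGroup 2 (MulAut X)) :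
    ∃ σ : MulAut X, σ ≠ 1 ∧ Odd (orderOf σ) := by
  haveI : Fact (Nat.Prime 2) := ⟨Nat.prime_two⟩
  by_contra hc
  push Not at hc
  apply hA
  intro σ
  obtain ⟨k, m, hm, hkm⟩ := Nat.exists_eq_two_pow_mul_odd (orderOf_pos σ).ne'
  refine ⟨k, by_contra fun h => ?_⟩
  refine hc (σ ^ 2 ^ k) h ?_
  rw [orderOf_pow' σ (by positivity), hkm, Nat.gcd_eq_right (dvd_mul_right _ _),
    Nat.mul_div_cancel_left _ (by positivity)]
  exact hm

omit [Finite X] in
theorem iterate_fixes {σ : MulAut X} {x : X} (hx : σ x = x) (n : ℕ) : (σ ^ n) x = x := by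
  induction n with
  | zero => rfl
  | succ n ih => rw [pow_succ', MulAut.mul_apply, ih, hx]

/-- No invariant functional on a two-generated `2`-group with an automorphism of odd order. -/
theorem invariant_map_trivial (hX : IsPGroup 2 X) {a b : X}
    (hgen : Subgroup.closure ({a, b} : Set X) = ⊤) {σ : MulAut X} (hσ1 : σ ≠ 1)
    (hodd : Odd (orderOf σ)) {Z : Type*} [Group Z] (φ : X →* Z) (hsq : ∀ x, φ (x * x) = 1)
    (hinv : ∀ x, φ (σ x) = φ x) : ∀ x, φ x = 1 := by
  haveI : Fact (Nat.Prime 2) := ⟨Nat.prime_two⟩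
  by_contra hne
  push Not at hne
  obtain ⟨u, hu⟩ := hne
  apply hσ1
  refine CfsgLib.PGroup.aut_eq_one_of_trivial_frattini hX
    ((Nat.Prime.coprime_iff_not_dvd Nat.prime_two).2 (fun h => Nat.not_even_iff_odd.2 hodd
      (even_iff_two_dvd.2 h))).symm ?_
  set Φ := frattini X with hΦ
  have hq : ∀ p q : X ⧸ Φ, p * q = q * p := CfsgLib.PGroup.frattini_quotient_comm hX
  have hp : ∀ p : X ⧸ Φ, p ^ 2 = 1 := CfsgLib.PGroup.frattini_quotient_pow hX
  -- the Frattini quotient has at most four elements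
  have hcard : Nat.card (X ⧸ Φ) ≤ 4 := by
    set A : X ⧸ Φ := (a : X ⧸ Φ)
    set B : X ⧸ Φ := (b : X ⧸ Φ)
    have hsur : Function.Surjective fun q : Subgroup.zpowers A × Subgroup.zpowers B =>
        (q.1 : X ⧸ Φ) * q.2 := by
      intro q
      haveI : (Subgroup.zpowers B).Normal := ⟨fun n hn g => by
        rwa [hq g n, mul_inv_cancel_right]⟩
      have htop : (Subgroup.zpowers A ⊔ Subgroup.zpowers B).comap (QuotientGroup.mk' Φ) = ⊤ := by
        rw [eq_top_iff, ← hgen, Subgroup.closure_le]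
        rintro _ (rfl | rfl)
        exacts [Subgroup.mem_sup_left (Subgroup.mem_zpowers A),
          Subgroup.mem_sup_right (Subgroup.mem_zpowers B)]
      obtain ⟨x, rfl⟩ := QuotientGroup.mk'_surjective Φ q
      have hx : x ∈ (Subgroup.zpowers A ⊔ Subgroup.zpowers B).comap (QuotientGroup.mk' Φ) :=
        htop ▸ Subgroup.mem_top x
      obtain ⟨u, hu, v, hv, huv⟩ := Subgroup.mem_sup_of_normal_right.1 hx
      exact ⟨(⟨u, hu⟩, ⟨v, hv⟩), huv⟩
    refine (Nat.card_le_card_of_surjective _ hsur).trans ?_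
    rw [Nat.card_prod, Nat.card_zpowers, Nat.card_zpowers]
    exact Nat.mul_le_mul (Nat.le_of_dvd two_pos (orderOf_dvd_of_pow_eq_one (hp A)))
      (Nat.le_of_dvd two_pos (orderOf_dvd_of_pow_eq_one (hp B)))
  -- the image of `φ` is elementary abelian, so its kernel contains the Frattini subgroup
  have hcommim : ∀ x y, φ x * φ y = φ y * φ x := by
    intro x y
    have i1 : (φ x)⁻¹ = φ x := inv_eq_of_mul_eq_one_right (by rw [← map_mul, hsq])
    have i2 : (φ y)⁻¹ = φ y := inv_eq_of_mul_eq_one_right (by rw [← map_mul, hsq])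
    have i3 : (φ x * φ y)⁻¹ = φ x * φ y := inv_eq_of_mul_eq_one_right (by
      rw [← map_mul, ← map_mul, hsq])
    rw [mul_inv_rev, i1, i2] at i3
    exact i3.symm
  have hker : Φ ≤ φ.ker := CfsgLib.PGroup.frattini_le_of_elementary
    (fun x y => by
      rw [MonoidHom.mem_ker, map_commutatorElement, commutatorElement_def, hcommim x y]; group)
    (fun x => by rw [MonoidHom.mem_ker, pow_two]; exact hsq x)
  haveI : (frattini X).Characteristic := frattini_characteristic
  have hσΦ : Φ ≤ Φ.comap σ.toMonoidHom := fun x hx => by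
    have h := Subgroup.characteristic_iff_map_eq.1 (inferInstance : (frattini X).Characteristic) σ
    show σ x ∈ frattini X
    rw [← h]; exact ⟨x, hx, rfl⟩
  set f : X ⧸ Φ →* X ⧸ Φ := QuotientGroup.map Φ Φ σ.toMonoidHom hσΦ with hf
  have hfmk : ∀ x : X, f (x : X ⧸ Φ) = (σ x : X ⧸ Φ) := fun x => rfl
  set ψ : X ⧸ Φ →* Z := QuotientGroup.lift Φ φ hker with hψ
  have hfi : ∀ q, ψ (f q) = ψ q := by
    intro q; obtain ⟨x, rfl⟩ := QuotientGroup.mk'_surjective Φ q; exact hinv x
  -- the kernel has at most two elements, so it is fixed pointwise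
  have hkfix : ∀ w, ψ w = 1 → f w = w := by
    have h2 : Nat.card ψ.ker ≤ 2 := by
      have hne : ψ.ker.index ≠ 1 := fun h => hu (by
        have hm : (u : X ⧸ Φ) ∈ ψ.ker := (Subgroup.index_eq_one.1 h) ▸ Subgroup.mem_top _
        exact MonoidHom.mem_ker.1 hm)
      have h := ψ.ker.card_mul_index
      have hpos : ψ.ker.index ≠ 0 := Subgroup.index_ne_zero_of_finite
      have := Nat.mul_le_mul_left (Nat.card ψ.ker) (show 2 ≤ ψ.ker.index by omega)
      omega
    intro w hw
    by_contra hne'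
    have hw1 : w ≠ 1 := fun h => hne' (by rw [h, map_one])
    have hfw1 : f w ≠ 1 := by
      intro h
      obtain ⟨x, rfl⟩ := QuotientGroup.mk'_surjective Φ w
      refine hw1 ((QuotientGroup.eq_one_iff x).2 ?_)
      have h' : σ x ∈ Φ := (QuotientGroup.eq_one_iff _).1 h
      have hc := Subgroup.characteristic_iff_map_eq.1
        (inferInstance : (frattini X).Characteristic) σ
      rw [hΦ, ← hc] at h'
      obtain ⟨y, hy, hyx⟩ := h'
      rwa [← σ.injective hyx]
    have h3 : 3 ≤ Nat.card ψ.ker := by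
      have hsub : ({1, w, f w} : Set (X ⧸ Φ)) ⊆ (ψ.ker : Set (X ⧸ Φ)) := by
        rintro _ (rfl | rfl | rfl)
        exacts [one_mem _, hw, MonoidHom.mem_ker.2 ((hfi w).trans hw)]
      have := Set.ncard_le_ncard hsub (Set.toFinite _)
      rw [Set.ncard_eq_three.2 ⟨1, w, f w, fun h => hw1 h.symm, fun h => hfw1 h.symm,
        fun h => hne' h.symm, rfl⟩, ← Nat.card_coe_set_eq] at this
      exact this
    omega
  have hff : ∀ q, f (f q) = q := by
    intro q
    have h1 : ψ (f q * q) = 1 := by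
      rw [map_mul, hfi, ← map_mul]
      obtain ⟨x, rfl⟩ := QuotientGroup.mk'_surjective Φ q
      exact hsq x
    have h2 := hkfix _ h1
    rw [map_mul, hq (f q) q] at h2
    exact mul_right_cancel h2
  intro x
  obtain ⟨r, hr⟩ := hodd
  have heven : ∀ i, (((σ ^ (2 * i)) x : X) : X ⧸ Φ) = (x : X ⧸ Φ) := by
    intro i
    induction i with
    | zero => rfl
    | succ i ih =>
      rw [show 2 * (i + 1) = 1 + 1 + 2 * i by ring, pow_add, pow_add, pow_one, MulAut.mul_apply,
        MulAut.mul_apply, ← hfmk, ← hfmk, hff, ih]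
  have h1 : f (x : X ⧸ Φ) = (x : X ⧸ Φ) := by
    have h := congrArg f (heven r)
    rw [hfmk, ← MulAut.mul_apply, ← pow_succ', ← hr, pow_orderOf_eq_one] at h
    exact h.symm
  rw [hfmk] at h1
  rw [← QuotientGroup.eq_one_iff, QuotientGroup.mk_mul, QuotientGroup.mk_inv, h1, mul_inv_cancel]

/-- The abelian case: homocyclic of rank two on any pair of generators. -/
theorem abelian_case {A : Type*} [CommGroup A] [Finite A] (hA : IsPGroup 2 A) {a b : A}
    (hgen : Subgroup.closure ({a, b} : Set A) = ⊤) {σ : MulAut A} (hσ1 : σ ≠ 1)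
    (hodd : Odd (orderOf σ)) :
    ∃ n, 1 ≤ n ∧ (∀ x : A, x ^ 2 ^ n = 1) ∧ orderOf a = 2 ^ n ∧ orderOf b = 2 ^ n ∧
      Nonempty (A ≃* Multiplicative (ZMod (2 ^ n)) × Multiplicative (ZMod (2 ^ n))) := by
  haveI : Fact (Nat.Prime 2) := ⟨Nat.prime_two⟩
  obtain ⟨ea, hea⟩ := hA.exists_orderOf_eq_pow a
  obtain ⟨eb, heb⟩ := hA.exists_orderOf_eq_pow b
  set n := max ea eb with hn
  have hexp : ∀ x : A, x ^ 2 ^ n = 1 := by
    intro x
    have hx : x ∈ Subgroup.closure ({a, b} : Set A) := hgen ▸ Subgroup.mem_top x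
    have hle : Subgroup.closure ({a, b} : Set A) ≤ (powMonoidHom (2 ^ n) : A →* A).ker := by
      rw [Subgroup.closure_le]
      rintro _ (rfl | rfl)
      · exact orderOf_dvd_iff_pow_eq_one.1 (hea ▸ pow_dvd_pow 2 (le_max_left ea eb))
      · exact orderOf_dvd_iff_pow_eq_one.1 (heb ▸ pow_dvd_pow 2 (le_max_right ea eb))
    exact hle hx
  have hn1 : 1 ≤ n := by
    by_contra h
    have h0 : n = 0 := by omega
    apply hσ1
    ext x
    have := hexp x
    have hy := hexp (σ x)
    rw [h0, pow_zero, pow_one] at this hy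
    rw [MulAut.one_apply, hy, this]
  set m := 2 ^ (n - 1) with hm
  have hm2 : m * 2 = 2 ^ n := by rw [hm, ← pow_succ]; congr 1; omega
  have hsq : ∀ x : A, x ^ m * x ^ m = 1 := fun x => by rw [← pow_two, ← pow_mul, hm2]; exact hexp x
  -- no involution of the image is the only one
  have key : ∀ w : A, (∀ x : A, x ^ m = 1 ∨ x ^ m = w) → False := by
    intro w hw
    have h1 := invariant_map_trivial hA hgen hσ1 hodd (powMonoidHom m : A →* A)
      (fun x => by show (x * x) ^ m = 1; rw [mul_pow]; exact hsq x) (fun x => ?_)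
    · rcases max_choice ea eb with h | h
      · have := orderOf_dvd_of_pow_eq_one (h1 a : a ^ m = 1)
        rw [hea, hm, Nat.pow_dvd_pow_iff_le_right one_lt_two] at this; omega
      · have := orderOf_dvd_of_pow_eq_one (h1 b : b ^ m = 1)
        rw [heb, hm, Nat.pow_dvd_pow_iff_le_right one_lt_two] at this; omega
    · show (σ x) ^ m = x ^ m
      rw [← map_pow]
      rcases hw x with h | h
      · rw [h, map_one]
      · rcases hw (σ x) with h' | h' <;> rw [← map_pow] at h'
        · have := σ.injective (h'.trans (map_one σ).symm)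
          rw [h', this]
        · rw [h', h]
  have him : ∀ x : A, x ^ m = 1 ∨ x ^ m = a ^ m ∨ x ^ m = b ^ m ∨ x ^ m = a ^ m * b ^ m := by
    intro x
    have hx : x ∈ Subgroup.closure ({a, b} : Set A) := hgen ▸ Subgroup.mem_top x
    obtain ⟨i, j, hij⟩ := Subgroup.mem_closure_pair.1 hx
    rw [← hij, mul_pow, ← zpow_natCast (a ^ i) m, ← zpow_natCast (b ^ j) m, ← zpow_mul,
      ← zpow_mul, mul_comm i, mul_comm j, zpow_mul, zpow_mul, zpow_natCast, zpow_natCast]
    have hp : ∀ (u : A) (k : ℤ), (u ^ m) ^ k = 1 ∨ (u ^ m) ^ k = u ^ m := by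
      intro u k
      have hu : (u ^ m) ^ (2 : ℤ) = 1 := by rw [zpow_two]; exact hsq u
      rcases Int.even_or_odd' k with ⟨l, rfl | rfl⟩
      · left; rw [zpow_mul, hu, one_zpow]
      · right; rw [zpow_add_one, zpow_mul, hu, one_zpow, one_mul]
    rcases hp a i with h1 | h1 <;> rcases hp b j with h2 | h2 <;> rw [h1, h2]
    · exact Or.inl (mul_one 1)
    · exact Or.inr (Or.inr (Or.inl (one_mul _)))
    · exact Or.inr (Or.inl (mul_one _))
    · exact Or.inr (Or.inr (Or.inr rfl))
  have ha1 : a ^ m ≠ 1 := fun h => key (b ^ m) fun x => by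
    rcases him x with h' | h' | h' | h' <;> simp [h', h]
  have hb1 : b ^ m ≠ 1 := fun h => key (a ^ m) fun x => by
    rcases him x with h' | h' | h' | h' <;> simp [h', h]
  have hab : a ^ m ≠ b ^ m := fun h => key (a ^ m) fun x => by
    rcases him x with h' | h' | h' | h' <;> simp [h', h, hsq b]
  have hord : ∀ u : A, u ^ m ≠ 1 → orderOf u = 2 ^ n := by
    intro u hu
    obtain ⟨e, he⟩ := hA.exists_orderOf_eq_pow u
    have h1 : e ≤ n := (Nat.pow_dvd_pow_iff_le_right one_lt_two).1 (he ▸ orderOf_dvd_of_pow_eq_one (hexp u))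
    have h2 : ¬ e ≤ n - 1 := fun h => hu (orderOf_dvd_iff_pow_eq_one.1 (he ▸ pow_dvd_pow 2 h))
    rw [he]; congr 1; omega
  refine ⟨n, hn1, hexp, hord a ha1, hord b hb1, ?_⟩
  -- the involution of a non-trivial element of `⟨u⟩`
  have hinv : ∀ (u : A) (x : A), u ^ m ≠ 1 → x ∈ Subgroup.zpowers u → x ≠ 1 →
      u ^ m ∈ Subgroup.zpowers x := by
    intro u x hu hx hx1
    obtain ⟨i, rfl⟩ : ∃ i : ℕ, u ^ i = x := mem_powers_iff_mem_zpowers.2 hx
    obtain ⟨e, r, hr, hi⟩ := Nat.exists_eq_two_pow_mul_odd (n := i) (by rintro rfl; simp at hx1)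
    have he : e ≤ n - 1 := by
      by_contra h
      apply hx1
      obtain ⟨c, hc⟩ := pow_dvd_pow 2 (show n ≤ e by omega)
      rw [hi, hc, mul_assoc, pow_mul, hexp, one_pow]
    refine ⟨((2 ^ (n - 1 - e) : ℕ) : ℤ), ?_⟩
    show (u ^ i) ^ ((2 ^ (n - 1 - e) : ℕ) : ℤ) = u ^ m
    rw [zpow_natCast, ← pow_mul, hi, show 2 ^ e * r * 2 ^ (n - 1 - e) = 2 ^ e * 2 ^ (n - 1 - e) * r by
      ring, ← pow_add, show e + (n - 1 - e) = n - 1 by omega, ← hm, pow_mul]
    obtain ⟨s, rfl⟩ := hr
    rw [pow_succ, pow_mul, pow_two, hsq, one_pow, one_mul]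
  set f : ↥(Subgroup.zpowers a) × ↥(Subgroup.zpowers b) →* A :=
    (Subgroup.zpowers a).subtype.coprod (Subgroup.zpowers b).subtype
  have hinj : Function.Injective f := by
    rw [← MonoidHom.ker_eq_bot_iff, eq_bot_iff]
    rintro ⟨u, v⟩ huv
    have h : (u : A) * v = 1 := huv
    have hu : (u : A) = (v : A)⁻¹ := eq_inv_of_mul_eq_one_left h
    by_cases hu1 : (u : A) = 1
    · rw [hu1, one_mul] at h
      rw [Subgroup.mem_bot]
      exact Prod.ext (Subtype.ext hu1) (Subtype.ext h)
    · exfalso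
      have h2 := hinv b _ hb1 (hu ▸ inv_mem v.2) hu1
      have h3 := hinv a _ ha1 ((Subgroup.zpowers_le.2 u.2) h2) hb1
      obtain ⟨k, hk⟩ := h3
      have hk' : (b ^ m) ^ k = a ^ m := hk
      rcases Int.even_or_odd' k with ⟨l, rfl | rfl⟩
      · rw [zpow_mul, zpow_two, hsq, one_zpow] at hk'; exact ha1 hk'.symm
      · rw [zpow_add_one, zpow_mul, zpow_two, hsq, one_zpow, one_mul] at hk'; exact hab hk'.symm
  have hsurj : Function.Surjective f := by
    rw [← MonoidHom.range_eq_top, eq_top_iff, ← hgen, Subgroup.closure_le]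
    intro w hw
    rcases hw with h | h
    · rw [h]; exact ⟨(⟨a, Subgroup.mem_zpowers a⟩, 1), mul_one a⟩
    · rw [Set.mem_singleton_iff] at h
      rw [h]; exact ⟨(1, ⟨b, Subgroup.mem_zpowers b⟩), one_mul b⟩
  have hz : ∀ u : A, orderOf u = 2 ^ n →
      Nonempty (↥(Subgroup.zpowers u) ≃* Multiplicative (ZMod (2 ^ n))) := fun u hu => by
    haveI : IsCyclic (Multiplicative (ZMod (2 ^ n))) := isCyclic_multiplicative
    refine ⟨mulEquivOfCyclicCardEq ?_⟩
    rw [Nat.card_zpowers, hu, Nat.card_congr Multiplicative.toAdd, Nat.card_zmod]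
  obtain ⟨za⟩ := hz a (hord a ha1)
  obtain ⟨zb⟩ := hz b (hord b hb1)
  exact ⟨(MulEquiv.ofBijective f ⟨hinj, hsurj⟩).symm.trans (za.prodCongr zb)⟩

/-- Metacyclic `2`-groups whose automorphism group is not a `2`-group. -/
theorem metacyclic_aut {X : Type*} [Group X] [Finite X] (hX : IsPGroup 2 X)
    (hm : Cfsg.IsMetacyclic X) (hA : ¬ IsPGroup 2 (MulAut X)) :
    Nonempty (X ≃* QuaternionGroup 2) ∨
      ∃ n : ℕ, Nonempty (X ≃* Multiplicative (ZMod (2 ^ n)) × Multiplicative (ZMod (2 ^ n))) := by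
  haveI : Fact (Nat.Prime 2) := ⟨Nat.prime_two⟩
  haveI : Finite (MulAut X) := Finite.of_injective (fun e => (e : X → X)) DFunLike.coe_injective
  obtain ⟨σ, hσ1, hodd⟩ := exists_odd_aut hA
  obtain ⟨N, hN, hNc, hQc⟩ := hm
  haveI := hN
  obtain ⟨⟨a, haN⟩, ha⟩ := hNc.exists_generator
  obtain ⟨qb, hqb⟩ := hQc.exists_generator
  obtain ⟨b, rfl⟩ := QuotientGroup.mk'_surjective N qb
  have hgen : Subgroup.closure ({a, b} : Set X) = ⊤ := by
    rw [eq_top_iff]
    intro x _
    obtain ⟨i, hi⟩ := Subgroup.mem_zpowers_iff.1 (hqb (QuotientGroup.mk' N x))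
    rw [← map_zpow] at hi
    have hxN : (b ^ i)⁻¹ * x ∈ N := (QuotientGroup.eq (s := N)).1 hi
    obtain ⟨j, hj⟩ := Subgroup.mem_zpowers_iff.1 (ha ⟨_, hxN⟩)
    have hj' : a ^ j = (b ^ i)⁻¹ * x := congrArg Subtype.val hj
    rw [show x = b ^ i * a ^ j by rw [hj']; group]
    exact mul_mem (zpow_mem (Subgroup.subset_closure (by simp)) i)
      (zpow_mem (Subgroup.subset_closure (by simp)) j)
  by_cases hcomm : IsMulCommutative X
  · letI : CommGroup X := { ‹Group X› with mul_comm := fun x y => hcomm.is_comm.comm x y }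
    obtain ⟨n, -, -, -, -, he⟩ := abelian_case hX hgen hσ1 hodd
    exact Or.inr ⟨n, he⟩
  -- the abelianisation
  set σ' : MulAut (Abelianization X) := σ.abelianizationCongr
  have hpow : ∀ i, ∀ x : X, (σ' ^ i) (Abelianization.of x) = Abelianization.of ((σ ^ i) x) := by
    intro i
    induction i with
    | zero => intro x; rfl
    | succ i ih =>
      intro x
      rw [pow_succ', pow_succ', MulAut.mul_apply, MulAut.mul_apply, ih]
      rfl
  have hσ'1 : σ' ≠ 1 := by
    intro h
    apply hσ1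
    refine CfsgLib.PGroup.aut_eq_one_of_trivial_frattini hX
      ((Nat.Prime.coprime_iff_not_dvd Nat.prime_two).2 (fun h => Nat.not_even_iff_odd.2 hodd
        (even_iff_two_dvd.2 h))).symm fun x => ?_
    apply CfsgLib.PGroup.commutator_le_frattini hX
    have h1 : Abelianization.of (σ x) = Abelianization.of x := by
      have := hpow 1 x; rw [pow_one, pow_one, h] at this; exact this.symm
    have h2 : Abelianization.of (σ x * x⁻¹) = 1 := by rw [map_mul, map_inv, h1, mul_inv_cancel]
    exact (QuotientGroup.eq_one_iff _).1 h2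
  have hodd' : Odd (orderOf σ') := by
    refine hodd.of_dvd_nat (orderOf_dvd_of_pow_eq_one ?_)
    ext y
    obtain ⟨x, rfl⟩ := QuotientGroup.mk'_surjective (commutator X) y
    show (σ' ^ orderOf σ) (Abelianization.of x) = Abelianization.of x
    rw [hpow, pow_orderOf_eq_one]; rfl
  have hgen' : Subgroup.closure ({Abelianization.of a, Abelianization.of b} : Set (Abelianization X)) = ⊤ := by
    rw [← Set.image_pair, ← MonoidHom.map_closure, hgen, ← MonoidHom.range_eq_map,
      MonoidHom.range_eq_top]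
    exact QuotientGroup.mk'_surjective _
  have hAp : IsPGroup 2 (Abelianization X) :=
    hX.of_surjective Abelianization.of (QuotientGroup.mk'_surjective _)
  obtain ⟨n, hn1, hexp, hoa, -, ⟨eA⟩⟩ := abelian_case hAp hgen' hσ'1 hodd'
  rcases Nat.lt_or_ge n 2 with hn2 | hn2
  · obtain rfl : n = 1 := by omega
    refine Or.inl (Cfsg.Agent.S4189.quaternion_of_aut hX hcomm ?_ hA)
    rw [Subgroup.index_eq_card]
    show Nat.card (Abelianization X) = 4
    rw [Nat.card_congr eA.toEquiv, Nat.card_prod, Nat.card_congr Multiplicative.toAdd, Nat.card_zmod]; rfl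
  exfalso
  -- the derived subgroup
  have hmem : ∀ x : X, x ^ 2 ^ n ∈ commutator X := fun x => by
    rw [← QuotientGroup.eq_one_iff, QuotientGroup.mk_pow]
    exact hexp _
  have hXN : commutator X ≤ N := by
    haveI := hQc
    rw [commutator_def, Subgroup.commutator_le]
    intro x _ y _
    rw [← QuotientGroup.eq_one_iff]
    show QuotientGroup.mk' N ⁅x, y⁆ = 1
    rw [map_commutatorElement, commutatorElement_eq_one_iff_mul_comm]
    exact (IsCyclic.commutative (α := X ⧸ N)).is_comm.comm _ _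
  set z := a ^ 2 ^ n with hz
  have hgenX' : commutator X ≤ Subgroup.zpowers z := by
    intro x hx
    obtain ⟨j, hj⟩ := Subgroup.mem_zpowers_iff.1 (ha ⟨x, hXN hx⟩)
    have hj' : a ^ j = x := congrArg Subtype.val hj
    have h1 : (Abelianization.of a) ^ j = 1 := by
      rw [← map_zpow, hj']; exact (QuotientGroup.eq_one_iff x).2 hx
    obtain ⟨c, rfl⟩ : ((2 ^ n : ℕ) : ℤ) ∣ j := by
      rw [← hoa]; exact orderOf_dvd_iff_zpow_eq_one.2 h1
    exact ⟨c, by rw [← hj', zpow_mul, zpow_natCast]⟩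
  have hX'eq : commutator X = Subgroup.zpowers z :=
    le_antisymm hgenX' (Subgroup.zpowers_le.2 (hmem a))
  have hz1 : z ≠ 1 := by
    intro h
    apply hcomm
    refine ⟨⟨fun x y => ?_⟩⟩
    have : ⁅x, y⁆ ∈ commutator X :=
      Subgroup.commutator_mem_commutator (Subgroup.mem_top x) (Subgroup.mem_top y)
    rw [hX'eq, h, Subgroup.zpowers_one_eq_bot, Subgroup.mem_bot,
      commutatorElement_eq_one_iff_mul_comm] at this
    exact this
  set D := Subgroup.zpowers (z ^ 2) with hD
  have hDn : D.Normal := by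
    refine ⟨fun d hd g => ?_⟩
    obtain ⟨i, rfl⟩ := hd
    have hn : (commutator X).Normal := inferInstance
    rw [hX'eq] at hn
    obtain ⟨k, hk⟩ := hn.conj_mem z (Subgroup.mem_zpowers z) g
    refine ⟨k * i, ?_⟩
    show (z ^ 2) ^ (k * i) = g * (z ^ 2) ^ i * g⁻¹
    rw [← conj_zpow, ← conj_pow, zpow_mul]
    congr 1
    show (z ^ 2) ^ k = (g * z * g⁻¹) ^ 2
    rw [← hk]
    show (z ^ 2) ^ k = (z ^ k) ^ 2
    rw [← zpow_natCast z 2, ← zpow_natCast (z ^ k) 2, ← zpow_mul, ← zpow_mul, mul_comm]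
  haveI := hDn
  have hzD : z ∉ D := by
    rintro ⟨i, hi⟩
    have hi' : (z ^ 2) ^ i = z := hi
    have h2 : z ^ (2 * i - 1) = 1 := by
      rw [zpow_sub_one, zpow_mul, zpow_ofNat, hi', mul_inv_cancel]
    obtain ⟨e, he⟩ := hX.exists_orderOf_eq_pow z
    have hd := orderOf_dvd_iff_zpow_eq_one.2 h2
    rw [he] at hd
    rcases e with _ | e
    · rw [pow_zero, orderOf_eq_one_iff] at he; exact hz1 he
    · have : (2 : ℤ) ∣ 2 * i - 1 :=
        (Int.natCast_dvd_natCast.2 (dvd_pow_self 2 e.succ_ne_zero)).trans hd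
      omega
  -- the derived subgroup becomes central of order two
  set π := QuotientGroup.mk' D
  have hz2 : π z * π z = 1 := by
    rw [← map_mul, ← pow_two]; exact (QuotientGroup.eq_one_iff _).2 (Subgroup.mem_zpowers _)
  have hX'two : ∀ x ∈ commutator X, π x = 1 ∨ π x = π z := by
    intro x hx
    rw [hX'eq] at hx
    obtain ⟨i, rfl⟩ := hx
    show π (z ^ i) = 1 ∨ π (z ^ i) = π z
    rw [map_zpow]
    rcases Int.even_or_odd' i with ⟨l, rfl | rfl⟩
    · left; rw [zpow_mul, zpow_two, hz2, one_zpow]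
    · right; rw [zpow_add_one, zpow_mul, zpow_two, hz2, one_zpow, one_mul]
  have hcent : ∀ (x y : X), ∀ w, Commute (π ⁅x, y⁆) w := by
    intro x y w
    have hxy : ⁅x, y⁆ ∈ commutator X :=
      Subgroup.commutator_mem_commutator (Subgroup.mem_top x) (Subgroup.mem_top y)
    obtain ⟨g, rfl⟩ := QuotientGroup.mk'_surjective D w
    rcases hX'two _ hxy with h | h <;> rw [h]
    · exact Commute.one_left _
    · have hn : (commutator X).Normal := inferInstance
      rcases hX'two _ (hn.conj_mem z (hmem a) g) with h' | h'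
      · exfalso
        apply hzD
        have h'' : g * z * g⁻¹ ∈ D := (QuotientGroup.eq_one_iff _).1 h'
        have := hDn.conj_mem _ h'' g⁻¹
        rwa [show g⁻¹ * (g * z * g⁻¹) * g⁻¹⁻¹ = z by group] at this
      · rw [map_mul, map_mul, map_inv, mul_inv_eq_iff_eq_mul] at h'
        exact h'.symm
  let φ : X →* X ⧸ D :=
    { toFun := fun x => π (x ^ 2 ^ n)
      map_one' := by rw [one_pow, map_one]
      map_mul' := fun x y => by
        have h := CfsgLib.PGroup.mul_pow_mul_commutatorElement (a := π x) (b := π y)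
          (by rw [← map_commutatorElement]; exact hcent x y _)
          (by rw [← map_commutatorElement]; exact hcent x y _) (2 ^ n)
        have hc2 : ⁅π x, π y⁆ ^ (2 ^ n).choose 2 = 1 := by
          have hev : 2 ∣ (2 ^ n).choose 2 := by
            rw [Nat.choose_two_right]
            obtain ⟨c, hc⟩ : 4 ∣ 2 ^ n := pow_dvd_pow 2 hn2
            rw [hc, show 4 * c * (4 * c - 1) = 2 * (2 * c * (4 * c - 1)) by ring,
              Nat.mul_div_cancel_left _ two_pos, mul_assoc]
            exact dvd_mul_right _ _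
          obtain ⟨c, hc⟩ := hev
          rw [hc, pow_mul, pow_two, ← map_commutatorElement]
          rcases hX'two _ (Subgroup.commutator_mem_commutator (Subgroup.mem_top x) (Subgroup.mem_top y) :
            ⁅x, y⁆ ∈ commutator X) with h' | h' <;> rw [h']
          · rw [one_mul, one_pow]
          · rw [hz2, one_pow]
        rw [hc2, mul_one] at h
        show π ((x * y) ^ 2 ^ n) = π (x ^ 2 ^ n) * π (y ^ 2 ^ n)
        simp only [map_pow, map_mul] at h ⊢
        exact h }
  -- `σ` centralises the derived subgroup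
  have hσz : σ z = z := by
    set C := commutator X
    haveI : IsCyclic ↥C := hX'eq ▸ (inferInstance : IsCyclic ↥(Subgroup.zpowers z))
    have hmap : ∀ x, x ∈ C → σ x ∈ C := fun x hx => by
      have hc : C.Characteristic := inferInstance
      rw [← Subgroup.characteristic_iff_map_eq.1 hc σ]; exact ⟨x, hx, rfl⟩
    haveI hc : C.Characteristic := inferInstance
    let res : MulAut X →* MulAut C :=
      { toFun := fun τ => (τ.subgroupMap C).trans
          (MulEquiv.subgroupCongr (Subgroup.characteristic_iff_map_eq.1 hc τ))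
        map_one' := by ext x; rfl
        map_mul' := fun τ υ => by ext x; rfl }
    have h2 := isPGroup_mulAut_cyclic (hX.to_subgroup C)
    obtain ⟨e, he⟩ := h2.exists_orderOf_eq_pow (res σ)
    have hd := orderOf_map_dvd res σ
    rw [he] at hd
    rcases e with _ | e
    · rw [pow_zero, orderOf_eq_one_iff] at he
      exact congrArg Subtype.val (DFunLike.congr_fun he ⟨z, hmem a⟩)
    · exact absurd (even_iff_two_dvd.2 ((dvd_pow_self 2 e.succ_ne_zero).trans hd))
        (Nat.not_even_iff_odd.2 hodd)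
  have := invariant_map_trivial hX hgen hσ1 hodd φ (fun x => ?_) (fun x => ?_) a
  · exact hzD ((QuotientGroup.eq_one_iff _).1 this)
  · show π ((x * x) ^ 2 ^ n) = 1
    rw [(Commute.refl x).mul_pow, map_mul]
    rcases hX'two _ (hmem x) with h | h <;> rw [h]
    · exact one_mul 1
    · exact hz2
  · show π ((σ x) ^ 2 ^ n) = π (x ^ 2 ^ n)
    congr 1
    rw [← map_pow]
    have hx := hmem x
    rw [hX'eq] at hx
    obtain ⟨i, hi⟩ := hx
    rw [← hi]
    show σ (z ^ i) = z ^ i
    rw [map_zpow, hσz]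

end CfsgLib.QuatCore
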