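import Cfsg.Agent.QuatCore.Metacyclic
import Cfsg.Agent.RegularSolvable.Quaternion
import Mathlib.GroupTheory.Sylow
import Mathlib.GroupTheory.SemidirectProduct

/-!
The automorphism group of `Q₈` is the symmetric group of degree four; extensions of `Q₈` by a
subgroup of order six of it are unique.
-/

set_option autoImplicit false

namespace CfsgLib.QuatCore

local notation "Q8" => QuaternionGroup 2
local notation "A8" => MulAut (QuaternionGroup 2)

theorem q8_central_facts : (∀ q : Q8, (∀ g, q * g = g * q) → q * q = 1) ∧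
    (∀ q r : Q8, (∀ g, q * g = g * q) → (∀ g, r * g = g * r) → q ≠ 1 → r ≠ 1 → q = r) ∧
    (∀ q : Q8, q * q * q * q = 1) ∧ (∀ q : Q8, q * q = 1 → ∀ g, q * g = g * q) := by
  refine ⟨?_, ?_, ?_, ?_⟩ <;> decide +kernel

theorem q8_conj_eq : ∀ q r : Q8, (∀ g, q * g * q⁻¹ = r * g * r⁻¹) → r * r ≠ 1 →
    q = r ∨ q = r * r * r := by
  decide +kernel

theorem q8_aut_central (α : A8) {c : Q8} (hc : ∀ g, c * g = g * c) : α c = c := by
  rcases eq_or_ne c 1 with rfl | h1
  · exact map_one α
  refine q8_central_facts.2.1 _ _ (fun g => ?_) hc (fun h => h1 (α.injective (h.trans (map_one α).symm))) h1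
  obtain ⟨x, rfl⟩ := α.surjective g
  rw [← map_mul, ← map_mul, hc]

theorem conj_map (α : A8) (r : Q8) : α * MulAut.conj r * α⁻¹ = MulAut.conj (α r) := by
  ext g
  simp only [MulAut.mul_apply, MulAut.conj_apply, map_mul, map_inv, MulAut.apply_inv_self]

/-- An element of order three commuting with a non-trivial inner automorphism is trivial. -/
theorem eq_one_of_commute_inner {α : A8} (h3 : α ^ 3 = 1) {r : Q8} (hr : r * r ≠ 1)
    (hc : Commute α (MulAut.conj r)) : α = 1 := by
  have hcr : MulAut.conj (α r) = MulAut.conj r := by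
    rw [← conj_map, hc.eq, mul_inv_cancel_right]
  have h3' : ∀ g, α (α (α g)) = g := fun g => by
    have h := DFunLike.congr_fun h3 g
    rw [pow_succ, pow_succ, pow_one] at h
    simpa using h
  have hfix : α r = r := by
    rcases q8_conj_eq (α r) r (fun g => DFunLike.congr_fun hcr g) hr with h | h
    · exact h
    · have e : r * r * r * (r * r * r) * (r * r * r) = r := by
        have e0 : ∀ g : Q8, g * g * g * (g * g * g) * (g * g * g) = g := by decide +kernel
        exact e0 r
      have h2 : α (α r) = r := by rw [h, map_mul, map_mul, h, e]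
      have h4 := h3' r
      rwa [h2] at h4
  ext g
  exact RegularSolvable.q8_aut_no_fix α h3' r hr hfix g

/-- An element of a subgroup of order three which also is inner is trivial. -/
theorem inner_eq_one {q : Q8} (h : (MulAut.conj q : A8) ^ 3 = 1) : (MulAut.conj q : A8) = 1 := by
  have h4 : (MulAut.conj q : A8) ^ 4 = 1 := by
    rw [← map_pow, show q ^ 4 = q * q * q * q by rw [pow_succ, pow_succ, pow_succ, pow_one], q8_central_facts.2.2.1, map_one]
  rwa [pow_succ, h, one_mul] at h4

section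

variable (hA : Nat.card A8 = 24)
include hA

theorem card_sylow_three_eq (P : Sylow 3 A8) : Nat.card (P : Subgroup A8) = 3 := by
  haveI : Fact (Nat.Prime 3) := ⟨Nat.prime_three⟩
  haveI : Finite A8 := Nat.finite_of_card_ne_zero (by omega)
  obtain ⟨k, hk⟩ := IsPGroup.iff_card.1 P.isPGroup'
  have hmul := (P : Subgroup A8).card_mul_index
  have hni : ¬ 3 ∣ (P : Subgroup A8).index := P.not_dvd_index
  rw [hk, hA] at hmul
  rw [hk]
  rcases k with _ | _ | k
  · exfalso; exact hni ⟨8, by simpa using hmul⟩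
  · rfl
  · exfalso
    have : 9 ∣ 24 := ⟨3 ^ k * (P : Subgroup A8).index, by rw [← hmul]; ring⟩
    norm_num at this

theorem pow_three_of_mem {P : Sylow 3 A8} {α : A8} (h : α ∈ (P : Subgroup A8)) : α ^ 3 = 1 := by
  have h1 := orderOf_dvd_natCard (⟨α, h⟩ : ↥(P : Subgroup A8))
  rw [card_sylow_three_eq hA P, Subgroup.orderOf_mk] at h1
  exact orderOf_dvd_iff_pow_eq_one.1 h1

theorem exists_ne_one_mem (P : Sylow 3 A8) : ∃ α ∈ (P : Subgroup A8), α ≠ 1 := by
  rw [← Subgroup.ne_bot_iff_exists_ne_one.trans (Subtype.exists.trans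
    (exists_congr fun a => ⟨fun ⟨h, h'⟩ => ⟨h, fun e => h' (Subtype.ext e)⟩,
      fun ⟨h, h'⟩ => ⟨h, fun e => h' (congrArg Subtype.val e)⟩⟩))]
  intro h
  have := card_sylow_three_eq hA P
  rw [h, Subgroup.card_bot] at this
  omega

/-- A non-trivial inner automorphism normalises no Sylow 3-subgroup. -/
theorem inner_not_mem_normalizer (P : Sylow 3 A8) {r : Q8} (hr : r * r ≠ 1) :
    (MulAut.conj r : A8) ∉ Subgroup.normalizer ((P : Subgroup A8) : Set A8) := by
  intro hn
  obtain ⟨α, hα, hα1⟩ := exists_ne_one_mem hA P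
  refine hα1 (eq_one_of_commute_inner (pow_three_of_mem hA hα) hr ?_)
  have h1 : α * MulAut.conj r * α⁻¹ * (MulAut.conj r)⁻¹ ∈ (P : Subgroup A8) := by
    have := (Subgroup.mem_normalizer_iff.1 hn α⁻¹).1 (inv_mem hα)
    rw [mul_assoc, mul_assoc]
    refine mul_mem hα ?_
    rwa [mul_assoc] at this
  rw [conj_map, ← map_inv, ← map_mul] at h1
  have h2 := inner_eq_one (pow_three_of_mem hA h1)
  rw [map_mul, map_inv, ← conj_map, mul_inv_eq_one, mul_inv_eq_iff_eq_mul] at h2
  exact h2

theorem card_sylow_eq_four : Nat.card (Sylow 3 A8) = 4 := by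
  haveI : Fact (Nat.Prime 3) := ⟨Nat.prime_three⟩
  haveI : Finite A8 := Nat.finite_of_card_ne_zero (by omega)
  let P : Sylow 3 A8 := default
  have hi : (P : Subgroup A8).index = 8 := by
    have := (P : Subgroup A8).card_mul_index
    rw [card_sylow_three_eq hA P, hA] at this
    omega
  have hd : Nat.card (Sylow 3 A8) ∣ 8 := hi ▸ P.card_dvd_index
  have hm := card_sylow_modEq_one 3 A8
  have hne : Nat.card (Sylow 3 A8) ≠ 1 := by
    intro h
    haveI : Subsingleton (Sylow 3 A8) := (Nat.card_eq_one_iff_unique.1 h).1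
    haveI := Sylow.normal_of_subsingleton P
    refine inner_not_mem_normalizer hA P (r := QuaternionGroup.a 1) (by decide) ?_
    rw [Subgroup.normalizer_eq_top]
    exact Subgroup.mem_top _
  have h8 : Nat.card (Sylow 3 A8) ≤ 8 := Nat.le_of_dvd (by norm_num) hd
  unfold Nat.ModEq at hm
  interval_cases hN : Nat.card (Sylow 3 A8) <;> omega

theorem card_normalizer_six (P : Sylow 3 A8) :
    Nat.card (Subgroup.normalizer ((P : Subgroup A8) : Set A8)) = 6 := by
  haveI : Fact (Nat.Prime 3) := ⟨Nat.prime_three⟩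
  haveI : Finite A8 := Nat.finite_of_card_ne_zero (by omega)
  have h := (Subgroup.normalizer ((P : Subgroup A8) : Set A8)).card_mul_index
  have hi : (Subgroup.normalizer ((P : Subgroup A8) : Set A8)).index = 4 :=
    P.card_eq_index_normalizer.symm.trans (card_sylow_eq_four hA)
  rw [hi, hA] at h
  omega

/-- The action on the four Sylow 3-subgroups is faithful, hence onto. -/
theorem nonempty_equiv_perm_four : ∃ ψ : A8 ≃* Equiv.Perm (Sylow 3 A8),
    ∀ g P, ψ g P = g • P := by
  classical
  haveI : Fact (Nat.Prime 3) := ⟨Nat.prime_three⟩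
  haveI : Finite A8 := Nat.finite_of_card_ne_zero (by omega)
  set f := MulAction.toPermHom A8 (Sylow 3 A8) with hf
  have hmem : ∀ g ∈ f.ker, ∀ P : Sylow 3 A8, g ∈ Subgroup.normalizer ((P : Subgroup A8) : Set A8) :=
    fun g hg P => Sylow.smul_eq_iff_mem_normalizer.1 (Equiv.ext_iff.1 (MonoidHom.mem_ker.1 hg) P)
  have h3 : ¬ 3 ∣ Nat.card f.ker := by
    intro h
    obtain ⟨⟨β, hβK⟩, hβ⟩ := exists_prime_orderOf_dvd_card' 3 h
    rw [Subgroup.orderOf_mk] at hβ
    have hzp : IsPGroup 3 ↥(Subgroup.zpowers β) :=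
      IsPGroup.of_card (n := 1) (by rw [Nat.card_zpowers, hβ, pow_one])
    have hall : ∀ P : Sylow 3 A8, (P : Subgroup A8) = Subgroup.zpowers β := by
      intro P
      have hle : Subgroup.zpowers β ≤ (P : Subgroup A8) :=
        (le_sup_left.trans_eq (P.is_maximal' (hzp.to_sup_of_normal_right' P.isPGroup'
          (Subgroup.zpowers_le.2 (hmem β hβK P))) le_sup_right) : _)
      refine (Subgroup.eq_of_le_of_card_ge hle ?_).symm
      rw [Nat.card_zpowers, hβ, card_sylow_three_eq hA P]
    have h1 : Subsingleton (Sylow 3 A8) := ⟨fun P Q => Sylow.ext ((hall P).trans (hall Q).symm)⟩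
    have h4 := card_sylow_eq_four hA
    rw [Nat.card_eq_one_iff_unique.2 ⟨h1, inferInstance⟩] at h4
    omega
  have hK2 : Nat.card f.ker ∣ 2 := by
    have hd : Nat.card f.ker ∣ 6 := card_normalizer_six hA default ▸
      Subgroup.card_dvd_of_le (fun g hg => hmem g hg default)
    have hco : Nat.Coprime (Nat.card f.ker) 3 :=
      ((Nat.prime_three.coprime_iff_not_dvd).2 h3).symm
    exact hco.dvd_of_dvd_mul_right (show Nat.card f.ker ∣ 2 * 3 from hd)
  have hinj : Function.Injective f := by
    rw [← MonoidHom.ker_eq_bot_iff, eq_bot_iff]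
    intro γ hγ
    rw [Subgroup.mem_bot]
    by_contra hγ1
    have hcen : ∀ g : A8, g * γ * g⁻¹ = γ := by
      intro g
      have hg : g * γ * g⁻¹ ∈ f.ker := (inferInstance : f.ker.Normal).conj_mem γ hγ g
      have h2 : Nat.card f.ker ≤ 2 := Nat.le_of_dvd two_pos hK2
      by_contra hne
      have hsub : ({1, γ, g * γ * g⁻¹} : Set A8) ⊆ (f.ker : Set A8) := by
        rintro _ (rfl | rfl | rfl)
        exacts [one_mem _, hγ, hg]
      have hle := Set.ncard_le_ncard hsub (Set.toFinite _)
      rw [Set.ncard_eq_three.2 ⟨1, γ, g * γ * g⁻¹, Ne.symm hγ1,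
        fun h => hγ1 (conj_eq_one_iff.1 h.symm), Ne.symm hne, rfl⟩, ← Nat.card_coe_set_eq] at hle
      exact absurd (hle.trans h2) (by norm_num)
    have hε : ∀ x g, γ x * x⁻¹ * g = g * (γ x * x⁻¹) := by
      intro x g
      have h := hcen (MulAut.conj x)
      have h' : γ * MulAut.conj x * γ⁻¹ = MulAut.conj x := by
        rw [mul_inv_eq_iff_eq_mul] at h ⊢
        exact h.symm
      rw [conj_map] at h'
      have h2 := DFunLike.congr_fun h' (x⁻¹ * g * x)
      simp only [MulAut.conj_apply] at h2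
      calc γ x * x⁻¹ * g = γ x * (x⁻¹ * g * x) * (γ x)⁻¹ * (γ x * x⁻¹) := by group
        _ = g * (γ x * x⁻¹) := by rw [h2]; group
    let ε : Q8 →* Q8 :=
      { toFun := fun x => γ x * x⁻¹
        map_one' := by simp
        map_mul' := fun x y => by
          rw [map_mul, mul_inv_rev]
          calc γ x * γ y * (y⁻¹ * x⁻¹) = γ x * ((γ y * y⁻¹) * x⁻¹) := by group
            _ = γ x * (x⁻¹ * (γ y * y⁻¹)) := by rw [hε y]
            _ = _ := by group }
    obtain ⟨α, hα, hα1⟩ := exists_ne_one_mem hA default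
    have hodd : Odd (orderOf α) := by
      rcases (Nat.dvd_prime Nat.prime_three).1
        (orderOf_dvd_of_pow_eq_one (pow_three_of_mem hA hα)) with h | h <;> rw [h] <;> decide
    have hQ : IsPGroup 2 Q8 := IsPGroup.of_card (n := 3) (by
      rw [Nat.card_eq_fintype_card, QuaternionGroup.card]; rfl)
    have hgen : Subgroup.closure ({QuaternionGroup.a 1, QuaternionGroup.xa 0} : Set Q8) = ⊤ := by
      rw [Subgroup.eq_top_iff']
      intro g
      have h0 : (QuaternionGroup.a 1 : Q8) ∈ Subgroup.closure ({QuaternionGroup.a 1, QuaternionGroup.xa 0} : Set Q8) :=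
        Subgroup.subset_closure (by simp)
      have h1 : (QuaternionGroup.xa 0 : Q8) ∈ Subgroup.closure ({QuaternionGroup.a 1, QuaternionGroup.xa 0} : Set Q8) :=
        Subgroup.subset_closure (by simp)
      rcases q8_gen (QuaternionGroup.a 1) (QuaternionGroup.xa 0) (by decide) (by decide) (by decide)
        (by decide) g with h | h | h | h | h | h | h | h <;> rw [h]
      exacts [one_mem _, h0, mul_mem h0 h0, mul_mem (mul_mem h0 h0) h0, h1, mul_mem h0 h1,
        mul_mem (mul_mem h0 h0) h1, mul_mem (mul_mem (mul_mem h0 h0) h0) h1]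
    have htriv := invariant_map_trivial hQ hgen hα1 hodd ε
      (fun x => by rw [map_mul]; exact q8_central_facts.1 _ (hε x)) (fun x => ?_)
    · apply hγ1
      ext x
      exact mul_inv_eq_one.1 (htriv x)
    · show γ (α x) * (α x)⁻¹ = γ x * x⁻¹
      have h := DFunLike.congr_fun (mul_inv_eq_iff_eq_mul.1 (hcen α)) x
      simp only [MulAut.mul_apply] at h
      rw [← h, ← map_inv, ← map_mul]
      exact q8_aut_central α (hε x)
  have hcard : Nat.card (Equiv.Perm (Sylow 3 A8)) ≤ Nat.card A8 := by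
    rw [Nat.card_perm, card_sylow_eq_four hA, hA]; rfl
  exact ⟨MulEquiv.ofBijective f (hinj.bijective_of_nat_card_le hcard), fun g P => rfl⟩

theorem nonempty_equiv_symmetric_four : Nonempty (A8 ≃* Equiv.Perm (Fin 4)) := by
  haveI : Finite A8 := Nat.finite_of_card_ne_zero (by omega)
  obtain ⟨ψ, -⟩ := nonempty_equiv_perm_four hA
  exact ⟨ψ.trans ((Finite.equivFinOfCardEq (card_sylow_eq_four hA)).permCongrHom)⟩

/-- A subgroup of order six is the normaliser of a Sylow 3-subgroup. -/
theorem exists_normalizer_eq {B : Subgroup A8} (hB : Nat.card B = 6) :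
    ∃ P : Sylow 3 A8, Subgroup.normalizer ((P : Subgroup A8) : Set A8) = B := by
  haveI : Fact (Nat.Prime 3) := ⟨Nat.prime_three⟩
  haveI : Finite A8 := Nat.finite_of_card_ne_zero (by omega)
  let T : Sylow 3 ↥B := default
  obtain ⟨k, hk⟩ := IsPGroup.iff_card.1 T.isPGroup'
  have hmul := (T : Subgroup ↥B).card_mul_index
  have hni : ¬ 3 ∣ (T : Subgroup ↥B).index := T.not_dvd_index
  rw [hk, hB] at hmul
  obtain rfl : k = 1 := by
    rcases k with _ | _ | k
    · exfalso; exact hni ⟨2, by simpa using hmul⟩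
    · rfl
    · exfalso
      have : 9 ∣ 6 := ⟨3 ^ k * (T : Subgroup ↥B).index, by rw [← hmul]; ring⟩
      norm_num at this
  rw [pow_one] at hk hmul
  have hi : (T : Subgroup ↥B).index = 2 := by omega
  haveI := Subgroup.normal_of_index_eq_two hi
  obtain ⟨P, hP⟩ := (T.isPGroup'.map B.subtype).exists_le_sylow
  have hPT : (T : Subgroup ↥B).map B.subtype = (P : Subgroup A8) :=
    Subgroup.eq_of_le_of_card_ge hP (by
      rw [card_sylow_three_eq hA P, Subgroup.card_map_of_injective B.subtype_injective, hk])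
  refine ⟨P, (Subgroup.eq_of_le_of_card_ge ?_ (by rw [card_normalizer_six hA P, hB])).symm⟩
  intro b hb
  rw [← hPT]
  have := Subgroup.le_normalizer_map B.subtype (H := (T : Subgroup ↥B))
  refine this ⟨⟨b, hb⟩, ?_, rfl⟩
  rw [Subgroup.normalizer_eq_top]
  exact Subgroup.mem_top _

/-- Subgroups of order six give isomorphic extensions of `Q₈`. -/
theorem nonempty_semidirect_equiv {B B' : Subgroup A8} (hB : Nat.card B = 6) (hB' : Nat.card B' = 6) :
    Nonempty (Q8 ⋊[B.subtype] ↥B ≃* Q8 ⋊[B'.subtype] ↥B') := by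
  haveI : Fact (Nat.Prime 3) := ⟨Nat.prime_three⟩
  haveI : Finite A8 := Nat.finite_of_card_ne_zero (by omega)
  obtain ⟨P, hP⟩ := exists_normalizer_eq hA hB
  obtain ⟨P', hP'⟩ := exists_normalizer_eq hA hB'
  obtain ⟨g, hg⟩ := MulAction.exists_smul_eq A8 P P'
  have hmap : B.map (MulAut.conj g).toMonoidHom = B' := by
    rw [← hP, ← hP', ← hg, Sylow.coe_subgroup_smul]
    exact Subgroup.map_normalizer_eq_of_bijective _ (MulAut.conj g).bijective
  let eB : ↥B ≃* ↥B' := (B.equivMapOfInjective _ (MulAut.conj g).injective).trans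
    (MulEquiv.subgroupCongr hmap)
  refine ⟨SemidirectProduct.congr g eB fun b => ?_⟩
  apply MulEquiv.ext
  intro x
  show g ((b : A8) x) = ((MulAut.conj g) (b : A8)) (g x)
  simp only [MulAut.conj_apply, MulAut.mul_apply, MulAut.inv_apply_self]

end

end CfsgLib.QuatCore
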